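import Mathlib.RingTheory.Etale.StandardEtale
import Mathlib.RingTheory.PolynomialAlgebra
import Mathlib.RingTheory.Polynomial.Resultant.Basic
import Mathlib.RingTheory.Polynomial.IsIntegral
import Mathlib.RingTheory.DedekindDomain.Different
import Mathlib.FieldTheory.Minpoly.IsIntegrallyClosed

/-!
# A generic primitive element for an integral closure with many geometric points in a fibre
-/

set_option autoImplicit false
universe u

open Polynomial

attribute [local instance] Polynomial.algebra
set_option backward.isDefEq.respectTransparency false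

namespace Groth.Agent.FibreCard25

/-- An algebra generated by a root of a monic polynomial with invertible derivative and no further
relations is finite étale. -/
theorem etale_and_finite_of_monic {R S : Type u} [CommRing R] [CommRing S] [Algebra R S] (f : R[X]) (hf : f.Monic)
    (x : S) (hx : aeval x f = 0) (hsurj : Function.Surjective (aeval (R := R) x))
    (hker : ∀ g : R[X], aeval x g = 0 → f ∣ g) (hsep : ∃ p q : R[X], derivative f * p + f * q = 1) :
    Algebra.Etale R S ∧ Module.Finite R S := by
  obtain ⟨p, q, hpq⟩ := hsep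
  let P : StandardEtalePair R := ⟨f, hf, 1, p, q, 1, by rw [one_pow]; exact hpq⟩
  have hm : P.HasMap x := ⟨hx, by simp [P]⟩
  have hP : Function.Surjective (aeval (R := R) P.X) := by
    intro z
    obtain ⟨w, rfl⟩ := Ideal.Quotient.mk_surjective z
    refine ⟨w.eval 1, ?_⟩
    have h1 : aeval (R := R) P.X = (Ideal.Quotient.mkₐ R _).comp (Polynomial.CAlgHom (R := R) (A := R[X])) := by
      ext; simp [StandardEtalePair.Ring, StandardEtalePair.X]
    rw [h1]
    apply Ideal.Quotient.eq.2
    obtain ⟨c, hc⟩ := Polynomial.X_sub_C_dvd_sub_C_eval (p := w) (a := 1)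
    have hmem : (Polynomial.X * C P.g - 1 : R[X][X]) ∈ Ideal.span {C P.f, Polynomial.X * C P.g - 1} :=
      Ideal.subset_span (by simp)
    have hw : CAlgHom (R := R) (A := R[X]) (w.eval 1) - w = -((Polynomial.X * C P.g - 1) * c) := by
      rw [map_one] at hc
      rw [show CAlgHom (R := R) (A := R[X]) (w.eval 1) = C (w.eval 1) from rfl, show P.g = 1 from rfl, map_one, mul_one]
      linear_combination -hc
    exact hw ▸ neg_mem (Ideal.mul_mem_right _ _ hmem)
  have hcomp : (P.lift x hm).comp (aeval P.X) = aeval x := by
    ext; simp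
  have hbij : Function.Bijective (P.lift x hm) := by
    refine ⟨(injective_iff_map_eq_zero _).2 fun z hz => ?_, fun z => ?_⟩
    · obtain ⟨g, rfl⟩ := hP z
      have hg : aeval x g = 0 := by rw [← hcomp]; exact hz
      obtain ⟨c, rfl⟩ := hker g hg
      rw [map_mul, show aeval P.X f = 0 from P.hasMap_X.1, zero_mul]
    · obtain ⟨g, rfl⟩ := hsurj z
      exact ⟨aeval P.X g, DFunLike.congr_fun hcomp g⟩
  refine ⟨Algebra.Etale.of_equiv (AlgEquiv.ofBijective _ hbij), ?_⟩
  have hint : IsIntegral R x := ⟨f, hf, hx⟩
  refine ⟨?_⟩
  have h := hint.fg_adjoin_singleton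
  rwa [Algebra.adjoin_singleton_eq_range_aeval, (AlgHom.range_eq_top _).2 hsurj, Algebra.top_toSubmodule] at h

variable (A : Type u) [CommRing A] [IsDomain A] [IsIntegrallyClosed A] (K L : Type u) [Field K] [Algebra A K]
  [IsFractionRing A K] [Field L] [Algebra A L] [Algebra K L] [IsScalarTower A K L] [FiniteDimensional K L]

/-- Finitely many distinct homomorphisms are separated by finitely many elements. -/
theorem exists_separating {B Ω : Type u} [Semiring B] [Semiring Ω] {n : ℕ} (φ : Fin n → B →+* Ω)
    (hinj : Function.Injective φ) : ∃ β : B[X], Function.Injective fun i => β.map (φ i) := by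
  classical
  have h : ∀ q : Fin n × Fin n, ∃ b : B, q.1 ≠ q.2 → φ q.1 b ≠ φ q.2 b := fun q => by
    by_cases hq : q.1 = q.2
    · exact ⟨0, fun h => absurd hq h⟩
    · by_contra! hc
      exact hq (hinj (RingHom.ext fun b => (hc b).2))
  choose b hb using h
  refine ⟨∑ q, monomial (Fintype.equivFin (Fin n × Fin n) q : ℕ) (b q), fun i j hij => ?_⟩
  by_contra hne
  apply hb (i, j) hne
  have := congrArg (coeff · (Fintype.equivFin (Fin n × Fin n) (i, j) : ℕ)) hij
  simpa [Polynomial.map_sum, Polynomial.coeff_monomial, Fin.val_inj] using this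

omit [IsDomain A] [IsIntegrallyClosed A] [Field K] in
/-- Polynomials over the integral closure are integral. -/
theorem isIntegral_polynomial (s : (integralClosure A L)[X]) : IsIntegral A[X] s := by
  induction s using Polynomial.induction_on' with
  | add p q hp hq => exact hp.add hq
  | monomial k c =>
    rw [← C_mul_X_pow_eq_monomial]
    refine IsIntegral.mul ?_ (IsIntegral.pow ?_ _)
    · have h : IsIntegral A c := Algebra.IsIntegral.isIntegral c
      exact (h.map (Polynomial.CAlgHom (R := A) (A := integralClosure A L))).tower_top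
    · have : (X : (integralClosure A L)[X]) = algebraMap A[X] _ X := by simp
      rw [this]
      exact isIntegral_algebraMap

/-- The span of the image of a finite extension of a subfield is a subalgebra of no larger rank. -/
theorem exists_subalgebra_of_finite {K L K' M : Type u} [Field K] [Field L] [Algebra K L] [FiniteDimensional K L]
    [Field K'] [Field M] [Algebra K' M] (i : L →+* M)
    (hi : ∀ c : K, i (algebraMap K L c) ∈ Set.range (algebraMap K' M)) :
    ∃ S : Subalgebra K' M, Module.Finite K' S ∧ Module.finrank K' S ≤ Module.finrank K L ∧ ∀ l, i l ∈ S := by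
  let v := Module.finBasis K L
  let W : Submodule K' M := Submodule.span K' (Set.range fun j => i (v j))
  have hiL : ∀ l : L, i l ∈ W := by
    intro l
    rw [← v.sum_repr l, map_sum]
    refine Submodule.sum_mem _ fun j _ => ?_
    obtain ⟨c, hc⟩ := hi (v.repr l j)
    rw [Algebra.smul_def, map_mul, ← hc, ← Algebra.smul_def]
    exact Submodule.smul_mem _ _ (Submodule.subset_span ⟨j, rfl⟩)
  have h1W : (1 : M) ∈ W := by simpa using hiL 1
  have hmulW : ∀ x y, x ∈ W → y ∈ W → x * y ∈ W := by
    intro x y hx hy
    induction hx using Submodule.span_induction with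
    | mem x hx =>
      obtain ⟨j, rfl⟩ := hx
      induction hy using Submodule.span_induction with
      | mem y hy => obtain ⟨k, rfl⟩ := hy; simpa using hiL (v j * v k)
      | zero => simp
      | add a b _ _ ha hb => rw [mul_add]; exact W.add_mem ha hb
      | smul r a _ ha => rw [mul_smul_comm]; exact W.smul_mem r ha
    | zero => simp
    | add a b _ _ ha hb => rw [add_mul]; exact W.add_mem ha hb
    | smul r a _ ha => rw [smul_mul_assoc]; exact W.smul_mem r ha
  haveI hWfin : Module.Finite K' W := Module.Finite.span_of_finite K' (Set.finite_range _)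
  exact ⟨W.toSubalgebra h1W hmulW, hWfin, (finrank_range_le_card (R := K') _).trans (by simp), hiL⟩

/-- A monic polynomial with enough distinct roots after a map to a field has invertible derivative up to a
scalar which does not map to zero. -/
theorem exists_bezout_of_roots {P F : Type u} [CommRing P] [Field F] (θ : P →+* F) {f : P[X]} (hf : f.Monic)
    {n : ℕ} (hn : 0 < n) (hdeg : f.natDegree ≤ n) (r : Fin n → F) (hr : Function.Injective r)
    (hroot : ∀ i, (f.map θ).IsRoot (r i)) :
    f.natDegree = n ∧ ∃ (δ : P) (p q : P[X]), derivative f * p + f * q = C δ ∧ θ δ ≠ 0 := by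
  classical
  have hdvd : ∏ i, (X - C (r i)) ∣ f.map θ :=
    Finset.prod_dvd_of_coprime (fun i _ j _ hij => pairwise_coprime_X_sub_C hr hij)
      fun i _ => dvd_iff_isRoot.2 (hroot i)
  have hprodm : (∏ i, (X - C (r i))).Monic := monic_prod_of_monic _ _ fun i _ => monic_X_sub_C _
  have hfθ : f.map θ = ∏ i, (X - C (r i)) := by
    refine eq_of_monic_of_dvd_of_natDegree_le hprodm (hf.map θ) hdvd ?_
    rw [hf.natDegree_map, natDegree_prod_of_monic _ _ fun i _ => monic_X_sub_C _]
    simpa using hdeg
  have hfn : f.natDegree = n := by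
    rw [← hf.natDegree_map θ, hfθ, natDegree_prod_of_monic _ _ fun i _ => monic_X_sub_C _]
    simp
  obtain ⟨p, q, -, -, hpq⟩ := exists_mul_add_mul_eq_C_resultant f (derivative f) le_rfl le_rfl
    (Or.inl (by rw [hfn]; exact hn.ne'))
  refine ⟨hfn, _, q, p, (add_comm _ _).trans hpq, ?_⟩
  have hsf : (f.map θ).Separable := hfθ ▸ separable_prod_X_sub_C_iff.2 hr
  have hne := resultant_ne_zero _ _ hsf
  have hle : (derivative (f.map θ)).natDegree ≤ (derivative f).natDegree := by
    rw [derivative_map]; exact natDegree_map_le
  obtain ⟨k, hk⟩ := Nat.exists_eq_add_of_le hle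
  intro h0
  apply hne
  rw [← resultant_map_map, ← derivative_map, hk, resultant_add_right_deg _ _ _ _ _ le_rfl,
    ← hf.natDegree_map θ, (hf.map θ).coeff_natDegree, one_pow, one_mul] at h0
  exact h0

/-- The derivative of the minimal polynomial multiplies integral elements into the order generated by a root. -/
theorem exists_aeval_eq_mul_of_bezout (P : Type u) [CommRing P] [IsDomain P] [IsIntegrallyClosed P] (K' E : Type u)
    [Field K'] [Algebra P K'] [IsFractionRing P K'] [Field E] [Algebra P E] [Algebra K' E] [IsScalarTower P K' E]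
    [FiniteDimensional K' E] (g₀ : E) (hg₀ : IsIntegral P g₀) (hgen : Algebra.adjoin K' {g₀} = ⊤) {δ : P}
    {p q : P[X]} (hpq : derivative (minpoly P g₀) * p + minpoly P g₀ * q = C δ) (hδ : algebraMap P K' δ ≠ 0)
    (s : E) (hs : IsIntegral P s) : ∃ g : P[X], aeval g₀ g = algebraMap P E δ * s := by
  have hmin₀ : minpoly K' g₀ = (minpoly P g₀).map (algebraMap P K') :=
    minpoly.isIntegrallyClosed_eq_field_fractions' K' hg₀
  have hd : aeval g₀ (derivative (minpoly P g₀)) * aeval g₀ p = algebraMap P E δ := by
    have h := congrArg (aeval g₀) hpq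
    rwa [map_add, map_mul, map_mul, aeval_C, minpoly.aeval, zero_mul, add_zero] at h
  have hd0 : aeval g₀ (derivative (minpoly P g₀)) ≠ 0 := fun h0 => by
    rw [h0, zero_mul, IsScalarTower.algebraMap_apply P K' E] at hd
    exact hδ ((map_eq_zero _).1 hd.symm)
  haveI : Algebra.IsSeparable K' E := by
    have hsep : IsSeparable K' g₀ := by
      show (minpoly K' g₀).Separable
      rw [hmin₀]
      refine ⟨C (algebraMap P K' δ)⁻¹ * q.map (algebraMap P K'), C (algebraMap P K' δ)⁻¹ * p.map (algebraMap P K'), ?_⟩
      have h := congrArg (Polynomial.map (algebraMap P K')) hpq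
      rw [Polynomial.map_add, Polynomial.map_mul, Polynomial.map_mul, map_C, ← derivative_map] at h
      calc _ = C (algebraMap P K' δ)⁻¹ * (derivative ((minpoly P g₀).map (algebraMap P K')) *
            p.map (algebraMap P K') + (minpoly P g₀).map (algebraMap P K') * q.map (algebraMap P K')) := by ring
        _ = 1 := by rw [h, ← map_mul, inv_mul_cancel₀ hδ, map_one]
    haveI := (IntermediateField.isSeparable_adjoin_simple_iff_isSeparable K' E).2 hsep
    have htop : IntermediateField.adjoin K' {g₀} = ⊤ := IntermediateField.toSubalgebra_injective (by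
      rw [IntermediateField.adjoin_simple_toSubalgebra_of_isAlgebraic hg₀.tower_top.isAlgebraic, hgen,
        IntermediateField.top_toSubalgebra])
    exact AlgEquiv.Algebra.isSeparable ((IntermediateField.equivOfEq htop).trans IntermediateField.topEquiv)
  have hmem : s ∈ (Algebra.traceForm K' E).dualSubmodule (Subalgebra.toSubmodule (Algebra.adjoin P {g₀})) := by
    intro y hy
    have hy' : IsIntegral P y := adjoin_le_integralClosure hg₀ hy
    rw [Algebra.traceForm_apply, Submodule.mem_one]
    exact IsIntegrallyClosed.isIntegral_iff.1 (Algebra.isIntegral_trace (hs.mul hy'))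
  rw [traceForm_dualSubmodule_adjoin (A := P) (K := K') hgen hg₀] at hmem
  obtain ⟨w, hw, hws⟩ := hmem
  rw [SetLike.mem_coe, Subalgebra.mem_toSubmodule, Algebra.adjoin_singleton_eq_range_aeval] at hw
  obtain ⟨g, rfl⟩ := hw
  refine ⟨p * g, ?_⟩
  rw [hmin₀, derivative_map, aeval_map_algebraMap] at hws
  have hws' : (aeval g₀ (derivative (minpoly P g₀)))⁻¹ * aeval g₀ g = s := hws
  rw [map_mul, ← hws', ← hd]
  field_simp

/-- The degree of an integral element is bounded by the rank of a subalgebra containing it over the field of
fractions, and in case of equality a Bezout identity puts all integral elements in the order it generates. -/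
theorem natDegree_minpoly_le_and_exists (P : Type u) [CommRing P] [IsDomain P] [IsIntegrallyClosed P]
    (K' M : Type u) [Field K'] [Algebra P K'] [IsFractionRing P K'] [Field M] [Algebra P M] [Algebra K' M]
    [IsScalarTower P K' M] (Sv : Subalgebra K' M) [Module.Finite K' Sv] {S : Type u} [CommRing S] [IsDomain S]
    [Algebra P S] [Module.IsTorsionFree P S] (ι : S →ₐ[P] M) (hι : Function.Injective ι)
    (hιS : ∀ s, ι s ∈ Sv) (hint : ∀ s : S, IsIntegral P s) (β : S) :
    (minpoly P β).natDegree ≤ Module.finrank K' Sv ∧
      (Module.finrank K' Sv ≤ (minpoly P β).natDegree → ∀ (δ : P) (p q : P[X]),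
        derivative (minpoly P β) * p + minpoly P β * q = C δ → algebraMap P K' δ ≠ 0 →
          ∀ s : S, ∃ g : P[X], aeval β g = algebraMap P S δ * s) := by
  have hf := minpoly.monic (hint β)
  have hzint : IsIntegral P (ι β) := (hint β).map ι
  have hminz : minpoly K' (ι β) = (minpoly P β).map (algebraMap P K') := by
    rw [← minpoly.algHom_eq ι hι β]
    exact minpoly.isIntegrallyClosed_eq_field_fractions' K' hzint
  refine ⟨?_, fun hge δ p q hpq hδ s => ?_⟩
  · rw [← hf.natDegree_map (algebraMap P K'), ← hminz,
      show ι β = Sv.val ⟨ι β, hιS β⟩ from rfl, minpoly.algHom_eq Sv.val Subtype.coe_injective]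
    exact minpoly.natDegree_le _
  let E : IntermediateField K' M := IntermediateField.adjoin K' {ι β}
  haveI : FiniteDimensional K' E := IntermediateField.adjoin.finiteDimensional hzint.tower_top
  have hEeq : Subalgebra.toSubmodule E.toSubalgebra = Subalgebra.toSubmodule Sv := by
    have hle : E.toSubalgebra ≤ Sv := by
      rw [IntermediateField.adjoin_simple_toSubalgebra_of_isAlgebraic hzint.tower_top.isAlgebraic,
        Algebra.adjoin_le_iff, Set.singleton_subset_iff]
      exact hιS β
    haveI : Module.Finite K' (Subalgebra.toSubmodule Sv) := ‹Module.Finite K' Sv›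
    refine Submodule.eq_of_le_of_finrank_le (fun m hm => hle hm) (hge.trans ?_)
    rw [← hf.natDegree_map (algebraMap P K'), ← hminz, ← IntermediateField.adjoin.finrank hzint.tower_top]
    exact le_rfl
  have hιE : ∀ s, ι s ∈ E := fun s => by
    show ι s ∈ Subalgebra.toSubmodule E.toSubalgebra
    rw [hEeq]; exact hιS s
  let ιE : S →ₐ[P] E := ι.codRestrict (E.toSubalgebra.restrictScalars P) hιE
  have hιEinj : Function.Injective ιE := fun a b h => hι (congrArg Subtype.val h)
  have hgen : Algebra.adjoin K' {ιE β} = ⊤ := by
    apply Subalgebra.map_injective (f := E.toSubalgebra.val) Subtype.coe_injective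
    rw [AlgHom.map_adjoin, Set.image_singleton, Algebra.map_top, Subalgebra.range_val]
    exact (IntermediateField.adjoin_simple_toSubalgebra_of_isAlgebraic hzint.tower_top.isAlgebraic).symm
  have hmin : minpoly P (ιE β) = minpoly P β := minpoly.algHom_eq ιE hιEinj β
  obtain ⟨g, hg⟩ := exists_aeval_eq_mul_of_bezout P K' E (ιE β) ((hint β).map ιE) hgen
    (p := p) (q := q) (hmin.symm ▸ hpq) hδ (ιE s) ((hint s).map ιE)
  exact ⟨g, hιEinj (by rw [← aeval_algHom_apply, hg, map_mul, AlgHom.commutes])⟩

set_option maxHeartbeats 1000000 in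
/-- If a normal domain has, over a geometric point `ψ`, as many points in the integral closure in `L` as the
degree of `L`, then after adjoining one variable the integral closure is generated, up to an element that does
not vanish at `ψ`, by one element with invertible derivative of the minimal polynomial. -/
theorem exists_generator {n : ℕ} (hn : Module.finrank K L ≤ n) {Ω : Type u} [Field Ω] (ψ : A →+* Ω)
    (φ : Fin n → (integralClosure A L) →+* Ω) (hφ : ∀ i, (φ i).comp (algebraMap A _) = ψ)
    (hinj : Function.Injective φ) :
    ∃ (f : A[X][X]) (β : (integralClosure A L)[X]) (δ : A[X]), f.Monic ∧ aeval β f = 0 ∧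
      (∀ g : A[X][X], aeval β g = 0 → f ∣ g) ∧ (∃ p q, derivative f * p + f * q = C δ) ∧ δ.map ψ ≠ 0 ∧
      ∀ s : (integralClosure A L)[X], ∃ g : A[X][X], aeval β g = algebraMap A[X] _ δ * s := by
  classical
  haveI : FaithfulSMul A L := by
    rw [faithfulSMul_iff_algebraMap_injective, IsScalarTower.algebraMap_eq A K L]
    exact (algebraMap K L).injective.comp (IsFractionRing.injective A K)
  haveI : FaithfulSMul A (integralClosure A L) := (faithfulSMul_iff_algebraMap_injective A (integralClosure A L)).2
    fun a a' h => FaithfulSMul.algebraMap_injective A L (congrArg Subtype.val h)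
  obtain ⟨β, hsep⟩ := exists_separating φ hinj
  have hint := isIntegral_polynomial A L
  have hf : (minpoly A[X] β).Monic := minpoly.monic (hint β)
  have hfroot : aeval β (minpoly A[X] β) = 0 := minpoly.aeval _ _
  -- the field of fractions of the polynomial ring over `L`
  let M := FractionRing L[X]
  haveI : FaithfulSMul A[X] M := by
    rw [faithfulSMul_iff_algebraMap_injective, IsScalarTower.algebraMap_eq A[X] L[X] M]
    exact (IsFractionRing.injective L[X] M).comp (FaithfulSMul.algebraMap_injective A[X] L[X])
  let K' := FractionRing A[X]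
  letI : Algebra K' M := FractionRing.liftAlgebra A[X] M
  let ι : (integralClosure A L)[X] →ₐ[A[X]] M := (IsScalarTower.toAlgHom A[X] L[X] M).comp
    (IsScalarTower.toAlgHom A[X] (integralClosure A L)[X] L[X])
  have hι : Function.Injective ι := (IsFractionRing.injective L[X] M).comp
    (Polynomial.map_injective (algebraMap (integralClosure A L) L) Subtype.coe_injective)
  let iL : L →+* M := (algebraMap L[X] M).comp Polynomial.C
  have hiK : ∀ c : K, iL (algebraMap K L c) ∈ Set.range (algebraMap K' M) := by
    intro c
    obtain ⟨a, b, hb, rfl⟩ := IsFractionRing.div_surjective (A := A) c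
    have key : ∀ r : A, iL (algebraMap K L (algebraMap A K r)) = algebraMap K' M (algebraMap A[X] K' (C r)) := by
      intro r
      rw [← IsScalarTower.algebraMap_apply A K L, ← IsScalarTower.algebraMap_apply A[X] K' M,
        IsScalarTower.algebraMap_apply A[X] L[X] M]
      simp [iL]
    exact ⟨algebraMap A[X] K' (C a) / algebraMap A[X] K' (C b), by rw [map_div₀, map_div₀, map_div₀, key, key]⟩
  obtain ⟨Sv, hfin, hrank, hiL⟩ := exists_subalgebra_of_finite iL hiK
  haveI := hfin
  have hιX : ι X = algebraMap K' M (algebraMap A[X] K' X) := by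
    rw [← IsScalarTower.algebraMap_apply, ← AlgHom.commutes ι]
    congr 1
    simp
  have hιC : ∀ c, ι (C c) = iL c := fun c => by simp [ι, iL]
  have hιS : ∀ s, ι s ∈ Sv := by
    intro s
    induction s using Polynomial.induction_on with
    | C c => rw [hιC]; exact hiL _
    | add p q hp hq => rw [map_add]; exact add_mem hp hq
    | monomial k c _ => rw [map_mul, map_pow, hιC, hιX]; exact Sv.mul_mem (hiL _) (Sv.pow_mem (Sv.algebraMap_mem _) _)
  haveI : Module.IsTorsionFree A[X] (integralClosure A L)[X] :=
    Module.isTorsionFree_iff_faithfulSMul.2 ((faithfulSMul_iff_algebraMap_injective A[X] (integralClosure A L)[X]).2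
      (Polynomial.map_injective (algebraMap A (integralClosure A L))
        (FaithfulSMul.algebraMap_injective A (integralClosure A L))))
  obtain ⟨hdeg, hgen⟩ := natDegree_minpoly_le_and_exists A[X] K' M Sv ι hι hιS hint β
  -- reduction at the geometric point
  let F := FractionRing (Polynomial Ω)
  obtain ⟨hfn, δ, p, q, hpq, hδθ⟩ := exists_bezout_of_roots ((algebraMap (Polynomial Ω) F).comp (mapRingHom ψ)) hf
    (lt_of_lt_of_le Module.finrank_pos hn) (hdeg.trans (hrank.trans hn)) (fun i => algebraMap (Polynomial Ω) F (β.map (φ i)))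
    ((IsFractionRing.injective (Polynomial Ω) F).comp hsep) (fun i => by
      rw [IsRoot, eval_map]
      have h := congrArg ((algebraMap (Polynomial Ω) F).comp (mapRingHom (φ i))) hfroot
      rw [aeval_def, hom_eval₂, map_zero] at h
      have h' : ((algebraMap (Polynomial Ω) F).comp (mapRingHom (φ i))).comp
          (algebraMap A[X] (integralClosure A L)[X]) = (algebraMap (Polynomial Ω) F).comp (mapRingHom ψ) := by
        rw [RingHom.comp_assoc, Polynomial.algebraMap_def, mapRingHom_comp, hφ i]
      rw [h'] at h
      exact h)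
  have hδψ : δ.map ψ ≠ 0 := fun h => hδθ (show algebraMap (Polynomial Ω) F (δ.map ψ) = 0 by rw [h, map_zero])
  have hδK : algebraMap A[X] K' δ ≠ 0 :=
    (map_ne_zero_iff _ (IsFractionRing.injective A[X] K')).2 fun h => hδθ (by rw [h, map_zero])
  refine ⟨minpoly A[X] β, β, δ, hf, hfroot, fun g hg => minpoly.isIntegrallyClosed_dvd (hint β) hg,
    ⟨p, q, hpq⟩, hδψ, hgen (by rw [hfn]; exact hrank.trans hn) δ p q hpq hδK⟩

end Groth.Agent.FibreCard25
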