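import Groth.Agent.Lib.FibreCard25.Alg
import Mathlib.RingTheory.Etale.Descent
import Mathlib.RingTheory.Finiteness.Descent
import Mathlib.RingTheory.RingHom.Etale
import Mathlib.RingTheory.RingHom.Finite
import Mathlib.RingTheory.Flat.FaithfullyFlat.Algebra
import Mathlib.RingTheory.Localization.BaseChange
import Mathlib.RingTheory.Localization.Integral

/-!
# Finite étale integral closures from the count of geometric points
-/

set_option autoImplicit false
universe u

open Polynomial TensorProduct

attribute [local instance] Polynomial.algebra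
set_option backward.isDefEq.respectTransparency false

namespace Groth.Agent.FibreCard25

/-- Descent of finite étaleness along a faithfully flat base change presented by pushouts. -/
theorem etale_and_finite_descend (A A₁ B B₁ R' S' : Type u) [CommRing A] [CommRing A₁] [CommRing B] [CommRing B₁]
    [CommRing R'] [CommRing S'] [Algebra A A₁] [Algebra A B] [Algebra A B₁] [Algebra A R'] [Algebra A S']
    [Algebra A₁ B₁] [Algebra A₁ R'] [Algebra A₁ S'] [Algebra B B₁] [Algebra B S'] [Algebra B₁ S'] [Algebra R' S']
    [IsScalarTower A A₁ B₁] [IsScalarTower A B B₁] [IsScalarTower A A₁ R'] [IsScalarTower A A₁ S']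
    [IsScalarTower A B S'] [IsScalarTower A R' S'] [IsScalarTower A₁ R' S'] [IsScalarTower A₁ B₁ S']
    [IsScalarTower B B₁ S'] [IsScalarTower A B₁ S'] [Algebra.IsPushout A A₁ B B₁] (h : Algebra.IsPushout A R' B S')
    [Module.FaithfullyFlat A₁ R'] [Algebra.Etale R' S'] [Module.Finite R' S'] :
    Algebra.Etale A₁ B₁ ∧ Module.Finite A₁ B₁ := by
  haveI : Algebra.IsPushout A₁ R' B₁ S' := (Algebra.IsPushout.comp_iff A A₁ B B₁ (T := R') (T' := S')).1 h
  let e : R' ⊗[A₁] B₁ ≃ₐ[R'] S' := Algebra.IsPushout.equiv A₁ R' B₁ S'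
  haveI : Algebra.Etale R' (R' ⊗[A₁] B₁) := Algebra.Etale.of_equiv e.symm
  haveI : Module.Finite R' (R' ⊗[A₁] B₁) := Module.Finite.equiv e.symm.toLinearEquiv
  exact ⟨Algebra.Etale.of_etale_tensorProduct_of_faithfullyFlat R',
    Module.Finite.of_finite_tensorProduct_of_faithfullyFlat R'⟩

/-- Localisation at an element of the base that makes the discriminant invertible gives a finite étale algebra. -/
theorem etale_and_finite_away {P S R' S' : Type u} [CommRing P] [CommRing S] [IsDomain S] [Algebra P S]
    [CommRing R'] [Algebra P R'] [CommRing S'] [Algebra S S'] [Algebra P S'] [Algebra R' S'] [IsScalarTower P R' S']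
    [IsScalarTower P S S'] {D δ : P} [IsLocalization.Away D R'] [IsLocalization.Away (algebraMap P S D) S']
    (hD : algebraMap P S D ≠ 0) (hdiv : δ ∣ D) {f : P[X]} (hf : f.Monic) {β : S} (hroot : aeval β f = 0)
    (hker : ∀ g : P[X], aeval β g = 0 → f ∣ g) {p q : P[X]} (hpq : derivative f * p + f * q = C δ)
    (hgen : ∀ s : S, ∃ g : P[X], aeval β g = algebraMap P S δ * s) :
    Algebra.Etale R' S' ∧ Module.Finite R' S' := by
  have hunit : IsUnit (algebraMap P R' δ) :=
    isUnit_of_dvd_unit (map_dvd _ hdiv) (IsLocalization.Away.algebraMap_isUnit D)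
  obtain ⟨u, hu⟩ := hunit
  let x : S' := algebraMap S S' β
  have haev : ∀ g : P[X], aeval x (g.map (algebraMap P R')) = algebraMap S S' (aeval β g) := fun g => by
    rw [aeval_map_algebraMap, aeval_algebraMap_apply]
  refine etale_and_finite_of_monic (f.map (algebraMap P R')) (hf.map _) x (by rw [haev, hroot, map_zero]) ?_ ?_ ?_
  · intro z
    obtain ⟨s, ⟨_, k, rfl⟩, rfl⟩ := IsLocalization.exists_mk'_eq (Submonoid.powers (algebraMap P S D)) z
    obtain ⟨g, hg⟩ := hgen s
    obtain ⟨d, hd⟩ := IsLocalization.Away.algebraMap_isUnit (S := R') D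
    refine ⟨C ((↑u⁻¹ : R') * ↑(d⁻¹ ^ k)) * g.map (algebraMap P R'), ?_⟩
    rw [map_mul, haev, hg, aeval_C, map_mul, map_mul, ← mul_assoc]
    apply (IsLocalization.eq_mk'_iff_mul_eq).2
    have e1 : algebraMap R' S' ↑u⁻¹ * algebraMap S S' (algebraMap P S δ) = 1 := by
      rw [← IsScalarTower.algebraMap_apply, IsScalarTower.algebraMap_apply P R' S', ← map_mul, ← hu,
        Units.inv_mul, map_one]
    have e2 : algebraMap R' S' ↑(d⁻¹ ^ k) * algebraMap S S' ((algebraMap P S D) ^ k) = 1 := by
      rw [map_pow, ← IsScalarTower.algebraMap_apply, IsScalarTower.algebraMap_apply P R' S', ← map_pow, ← map_mul,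
        ← hd, ← Units.val_pow_eq_pow_val, ← Units.val_mul, ← mul_pow, inv_mul_cancel, one_pow, Units.val_one, map_one]
    calc _ = (algebraMap R' S' ↑u⁻¹ * algebraMap S S' (algebraMap P S δ)) *
          (algebraMap R' S' ↑(d⁻¹ ^ k) * algebraMap S S' ((algebraMap P S D) ^ k)) * algebraMap S S' s := by ring
      _ = _ := by rw [e1, e2, one_mul, one_mul]
  · intro g hg
    obtain ⟨b, hb⟩ := IsLocalization.integerNormalization_map_to_map (Submonoid.powers D) g
    have h0 : algebraMap S S' (aeval β (IsLocalization.integerNormalization (Submonoid.powers D) g)) = 0 := by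
      rw [← haev, hb, ← algebraMap_smul R', smul_eq_C_mul, map_mul, hg, mul_zero]
    have hinj : Function.Injective (algebraMap S S') := IsLocalization.injective S'
      (powers_le_nonZeroDivisors_of_noZeroDivisors hD)
    have hdvd := Polynomial.map_dvd (algebraMap P R') (hker _ (hinj (h0.trans (map_zero _).symm)))
    rw [hb, ← algebraMap_smul R', smul_eq_C_mul] at hdvd
    exact (IsUnit.dvd_mul_left (isUnit_C.2 (IsLocalization.map_units R' b))).1 hdvd
  · refine ⟨C ((u⁻¹ : R'ˣ) : R') * p.map (algebraMap P R'), C ((u⁻¹ : R'ˣ) : R') * q.map (algebraMap P R'), ?_⟩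
    have h := congrArg (Polynomial.map (algebraMap P R')) hpq
    rw [Polynomial.map_add, Polynomial.map_mul, Polynomial.map_mul, map_C, ← derivative_map] at h
    calc _ = C ((u⁻¹ : R'ˣ) : R') * (derivative (f.map (algebraMap P R')) * p.map (algebraMap P R') +
          f.map (algebraMap P R') * q.map (algebraMap P R')) := by ring
      _ = 1 := by rw [h, ← map_mul, ← hu, Units.inv_mul, map_one]

/-- Polynomial localisations away from `C a * δ` are faithfully flat over `A[1/a]` when `a` is a coefficient of `δ`. -/
theorem faithfullyFlat_away (A : Type u) [CommRing A] (δ : A[X]) (k : ℕ) (A₁ R' : Type u) [CommRing A₁]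
    [CommRing R'] [Algebra A A₁] [IsLocalization.Away (δ.coeff k) A₁] [Algebra A[X] R'] [Algebra A R']
    [IsScalarTower A A[X] R'] [IsLocalization.Away (C (δ.coeff k) * δ) R'] [Algebra A₁ R'] [IsScalarTower A A₁ R'] :
    Module.FaithfullyFlat A₁ R' := by
  haveI : Module.Flat A[X] R' := IsLocalization.flat R' (Submonoid.powers (C (δ.coeff k) * δ))
  haveI : Module.Flat A R' := Module.Flat.trans A A[X] R'
  haveI : Module.Flat A₁ R' :=
    (Module.flat_iff_of_isLocalization A₁ (Submonoid.powers (δ.coeff k)) R').2 inferInstance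
  refine Module.FaithfullyFlat.of_comap_surjective fun P => ?_
  let p : Ideal A := P.asIdeal.comap (algebraMap A A₁)
  have ha : δ.coeff k ∉ p := fun h => P.isPrime.ne_top (Ideal.eq_top_of_isUnit_mem _ h
    (IsLocalization.Away.algebraMap_isUnit (S := A₁) _))
  have hnot : C (δ.coeff k) * δ ∉ Ideal.map C p := fun h => by
    have h1 := Ideal.mem_map_C_iff.1 h k
    rw [coeff_C_mul] at h1
    exact ((inferInstance : p.IsPrime).mem_or_mem h1).elim ha ha
  have hdis : Disjoint (Submonoid.powers (C (δ.coeff k) * δ) : Set A[X]) (Ideal.map C p : Set A[X]) :=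
    Set.disjoint_left.2 fun x hx hx' => by
      obtain ⟨m, rfl⟩ := hx
      exact hnot ((inferInstance : (Ideal.map C p).IsPrime).mem_of_pow_mem m hx')
  have hQ := IsLocalization.isPrime_of_isPrime_disjoint (Submonoid.powers (C (δ.coeff k) * δ)) R' (Ideal.map C p)
    inferInstance hdis
  refine ⟨⟨_, hQ⟩, PrimeSpectrum.ext ?_⟩
  rw [PrimeSpectrum.comap_asIdeal, ← IsLocalization.map_under (Submonoid.powers (δ.coeff k)) A₁
    ((Ideal.map (algebraMap A[X] R') (Ideal.map C p)).comap (algebraMap A₁ R'))]
  have hu : ((Ideal.map (algebraMap A[X] R') (Ideal.map C p)).comap (algebraMap A₁ R')).under A = p := by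
    rw [Ideal.under_def, Ideal.comap_comap, ← IsScalarTower.algebraMap_eq, IsScalarTower.algebraMap_eq A A[X] R',
      ← Ideal.comap_comap]
    rw [show (Ideal.map (algebraMap A[X] R') (Ideal.map C p)).comap (algebraMap A[X] R') = Ideal.map C p from
      IsLocalization.under_map_of_isPrime_disjoint (Submonoid.powers (C (δ.coeff k) * δ)) R' inferInstance hdis]
    ext r
    rw [Ideal.mem_comap, Ideal.mem_map_C_iff]
    refine ⟨fun h => by simpa using h 0, fun h m => ?_⟩
    rw [Polynomial.algebraMap_apply, coeff_C]
    split <;> simp [h]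
  rw [hu]
  exact IsLocalization.map_under (Submonoid.powers (δ.coeff k)) A₁ P.asIdeal

set_option maxHeartbeats 1000000 in
/-- If over a geometric point of a normal domain the integral closure in `L` has as many points as the degree,
then it is finite étale after inverting an element which does not vanish at the point. -/
theorem exists_awayMap_etale_finite (A : Type u) [CommRing A] [IsDomain A] [IsIntegrallyClosed A] (K L : Type u)
    [Field K] [Algebra A K] [IsFractionRing A K] [Field L] [Algebra A L] [Algebra K L] [IsScalarTower A K L]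
    [FiniteDimensional K L] {n : ℕ} (hn : Module.finrank K L ≤ n) {Ω : Type u} [Field Ω] (ψ : A →+* Ω)
    (φ : Fin n → (integralClosure A L) →+* Ω) (hφ : ∀ i, (φ i).comp (algebraMap A _) = ψ)
    (hinj : Function.Injective φ) :
    ∃ a : A, ψ a ≠ 0 ∧ (Localization.awayMap (algebraMap A (integralClosure A L)) a).Etale ∧
      (Localization.awayMap (algebraMap A (integralClosure A L)) a).Finite := by
  obtain ⟨f, β, δ, hf, hroot, hker, ⟨p, q, hpq⟩, hδψ, hgen⟩ := exists_generator A K L hn ψ φ hφ hinj
  obtain ⟨k, hk⟩ : ∃ k, ψ (δ.coeff k) ≠ 0 := by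
    by_contra! h
    exact hδψ (Polynomial.ext fun k => by rw [coeff_map, h, coeff_zero])
  refine ⟨δ.coeff k, hk, ?_⟩
  let B := integralClosure A L
  let D : A[X] := C (δ.coeff k) * δ
  have hD : D ≠ 0 := mul_ne_zero (C_ne_zero.2 fun h => hk (by rw [h, map_zero])) fun h => hδψ (by rw [h, Polynomial.map_zero])
  haveI : FaithfulSMul A B := (faithfulSMul_iff_algebraMap_injective A B).2 fun a a' h => by
    have h' := congrArg Subtype.val h
    rw [Subalgebra.coe_algebraMap, Subalgebra.coe_algebraMap, IsScalarTower.algebraMap_apply A K L,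
      IsScalarTower.algebraMap_apply A K L] at h'
    exact IsFractionRing.injective A K ((algebraMap K L).injective h')
  have hDB : algebraMap A[X] B[X] D ≠ 0 :=
    (map_ne_zero_iff _ (Polynomial.map_injective _ (FaithfulSMul.algebraMap_injective A B))).2 hD
  let a := δ.coeff k
  let A₁ := Localization.Away a
  let B₁ := Localization.Away (algebraMap A B a)
  let R' := Localization.Away D
  let S' := Localization.Away (algebraMap A[X] B[X] D)
  letI : Algebra A₁ B₁ := (Localization.awayMap (algebraMap A B) a).toAlgebra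
  haveI : IsScalarTower A A₁ B₁ := IsScalarTower.of_algebraMap_eq fun r =>
    ((show algebraMap A₁ B₁ (algebraMap A A₁ r) = algebraMap B B₁ (algebraMap A B r) from
      IsLocalization.map_eq (M := Submonoid.powers a) (T := Submonoid.powers (algebraMap A B a))
        (Submonoid.powers_le.2 ⟨1, pow_one _⟩) r).trans
        (IsScalarTower.algebraMap_apply A B B₁ r).symm).symm
  haveI : IsLocalization (Algebra.algebraMapSubmonoid B (Submonoid.powers a)) B₁ := by
    rw [Algebra.algebraMapSubmonoid_powers]; infer_instance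
  haveI : Algebra.IsPushout A A₁ B B₁ := (Algebra.isPushout_of_isLocalization (Submonoid.powers a) A₁ B B₁).symm
  letI : Algebra R' S' := (IsLocalization.Away.map R' S' (algebraMap A[X] B[X]) D).toAlgebra
  haveI : IsScalarTower A[X] R' S' := IsScalarTower.of_algebraMap_eq fun r =>
    ((show algebraMap R' S' (algebraMap A[X] R' r) = algebraMap B[X] S' (algebraMap A[X] B[X] r) from
      IsLocalization.map_eq (M := Submonoid.powers D) (T := Submonoid.powers (algebraMap A[X] B[X] D))
        (Submonoid.powers_le.2 ⟨1, pow_one _⟩) r).trans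
        (IsScalarTower.algebraMap_apply A[X] B[X] S' r).symm).symm
  haveI : IsScalarTower A R' S' := IsScalarTower.of_algebraMap_eq fun r => by
    rw [IsScalarTower.algebraMap_apply A A[X] R', ← IsScalarTower.algebraMap_apply A[X] R' S',
      ← IsScalarTower.algebraMap_apply A A[X] S']
  haveI : IsLocalization (Algebra.algebraMapSubmonoid B[X] (Submonoid.powers D)) S' := by
    rw [Algebra.algebraMapSubmonoid_powers]; infer_instance
  haveI : Algebra.IsPushout A[X] R' B[X] S' := (Algebra.isPushout_of_isLocalization (Submonoid.powers D) R' B[X] S').symm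
  have hpush : Algebra.IsPushout A R' B S' :=
    (Algebra.IsPushout.comp_iff A A[X] B B[X] (T := R') (T' := S')).2 inferInstance
  have haR : IsUnit (algebraMap A R' a) := by
    rw [IsScalarTower.algebraMap_apply A A[X] R']
    exact isUnit_of_dvd_unit (map_dvd _ (Dvd.intro δ rfl)) (IsLocalization.Away.algebraMap_isUnit D)
  letI : Algebra A₁ R' := (IsLocalization.Away.lift a haR).toAlgebra
  haveI : IsScalarTower A A₁ R' := IsScalarTower.of_algebraMap_eq fun r =>
    (IsLocalization.Away.lift_eq _ haR r).symm
  have haS : IsUnit (algebraMap B S' (algebraMap A B a)) := by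
    rw [← IsScalarTower.algebraMap_apply, IsScalarTower.algebraMap_apply A R' S']
    exact haR.map _
  letI : Algebra B₁ S' := (IsLocalization.Away.lift (algebraMap A B a) haS).toAlgebra
  haveI : IsScalarTower B B₁ S' := IsScalarTower.of_algebraMap_eq fun r =>
    (IsLocalization.Away.lift_eq _ haS r).symm
  haveI : IsScalarTower A B₁ S' := IsScalarTower.of_algebraMap_eq fun r => by
    rw [IsScalarTower.algebraMap_apply A B B₁, ← IsScalarTower.algebraMap_apply B B₁ S',
      ← IsScalarTower.algebraMap_apply A B S']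
  letI : Algebra A₁ S' := ((algebraMap R' S').comp (algebraMap A₁ R')).toAlgebra
  haveI : IsScalarTower A₁ R' S' := IsScalarTower.of_algebraMap_eq' rfl
  haveI : IsScalarTower A A₁ S' := IsScalarTower.of_algebraMap_eq fun r => by
    show _ = algebraMap R' S' (algebraMap A₁ R' (algebraMap A A₁ r))
    rw [ ← IsScalarTower.algebraMap_apply A A₁ R',
      ← IsScalarTower.algebraMap_apply A R' S']
  haveI : IsScalarTower A₁ B₁ S' := IsScalarTower.of_algebraMap_eq' (IsLocalization.ringHom_ext
    (Submonoid.powers a) (RingHom.ext fun r => by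
      rw [RingHom.comp_apply, RingHom.comp_apply, RingHom.comp_apply, ← IsScalarTower.algebraMap_apply A A₁ S',
        ← IsScalarTower.algebraMap_apply A A₁ B₁, IsScalarTower.algebraMap_apply A B B₁,
        ← IsScalarTower.algebraMap_apply B B₁ S', ← IsScalarTower.algebraMap_apply A B S']))
  haveI : Module.FaithfullyFlat A₁ R' := faithfullyFlat_away A δ k A₁ R'
  obtain ⟨h1, h2⟩ := etale_and_finite_away (R' := R') (S' := S') (D := D) hDB ⟨C a, mul_comm _ _⟩ hf hroot hker hpq hgen
  haveI := h1
  haveI := h2
  obtain ⟨h3, h4⟩ := etale_and_finite_descend A A₁ B B₁ R' S' hpush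
  exact ⟨RingHom.etale_algebraMap.2 h3, RingHom.finite_algebraMap.2 h4⟩

end Groth.Agent.FibreCard25
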