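import Groth.Agent.Lib.FibreCard25.Descent
import Groth.Agent.Lib.UnrNorm25.Generic
import Mathlib.AlgebraicGeometry.Morphisms.Etale

/-!
# The normalization in a finite extension is finite étale where a geometric fibre has enough points
-/

set_option autoImplicit false
set_option linter.style.haveILetI false
set_option backward.isDefEq.respectTransparency false
set_option backward.isDefEq.respectTransparency.types false
universe u

open CategoryTheory CategoryTheory.Limits AlgebraicGeometry TopologicalSpace

noncomputable section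

namespace Groth.Agent.FibreCard25

variable {X : Scheme.{u}} [IsIntegral X] (L : Type u) [Field L] [Algebra X.functionField L]

/-- Sections over an open containing the generic point act on `L` through the function field. -/
theorem str_appLE_ΓSpecIso (U : X.Opens) [Nonempty U] :
    (UnrNorm25.str (X := X) L).appLE U ⊤ (UnrNorm25.preimage_top L U).ge ≫ (Scheme.ΓSpecIso (CommRingCat.of L)).hom =
      X.germToFunctionField U ≫ CommRingCat.ofHom (algebraMap X.functionField L) := by
  have hηU : genericPoint X ∈ U := (genericPoint_specializes (Classical.arbitrary U).1).mem_open U.2 (Classical.arbitrary U).2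
  have hle : (⊤ : (Spec (X.presheaf.stalk (genericPoint X))).Opens) ≤ X.fromSpecStalk (genericPoint X) ⁻¹ᵁ U := by
    intro y _
    show X.fromSpecStalk (genericPoint X) y ∈ U
    rw [UnrNorm25.fromSpecStalk_genericPoint]; exact hηU
  have h1 : (X.fromSpecStalk (genericPoint X)).appLE U ⊤ hle =
      X.presheaf.germ U (genericPoint X) hηU ≫ (Scheme.ΓSpecIso _).inv := by
    rw [Scheme.Hom.appLE, Scheme.fromSpecStalk_app hηU]
    simp only [Category.assoc, ← Functor.map_comp]
    rw [show ((homOfLE le_top).op ≫ (homOfLE _).op :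
      Opposite.op (⊤ : (Spec (X.presheaf.stalk (genericPoint X))).Opens) ⟶ Opposite.op ⊤) = 𝟙 _ from rfl,
      CategoryTheory.Functor.map_id, Category.comp_id]
  rw [show (UnrNorm25.str (X := X) L).appLE U ⊤ (UnrNorm25.preimage_top L U).ge =
      (X.fromSpecStalk (genericPoint X)).appLE U ⊤ hle ≫
        (Spec.map (CommRingCat.ofHom (algebraMap X.functionField L))).appLE ⊤ ⊤ le_top from
      (Scheme.Hom.appLE_comp_appLE _ _ U ⊤ ⊤ _ _).symm, h1]
  simp only [Category.assoc]
  rw [show (Spec.map (CommRingCat.ofHom (algebraMap X.functionField L))).appLE ⊤ ⊤ le_top =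
    (Spec.map (CommRingCat.ofHom (algebraMap X.functionField L))).appTop from
      (Scheme.Hom.app_eq_appLE _).symm, Scheme.ΓSpecIso_naturality]
  erw [Iso.inv_hom_id_assoc]

variable [FiniteDimensional X.functionField L] [QuasiCompact (UnrNorm25.str (X := X) L)]
  [QuasiSeparated (UnrNorm25.str (X := X) L)]

set_option maxHeartbeats 800000 in
/-- The normalization is finite étale over a neighbourhood of a geometric point above which it has at least
`[L : K]` points. -/
theorem exists_nhd_etale_finite (hX : Pi1.IsNormalScheme X) (Ω : Type u) [Field Ω]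
    (ξ : Spec (CommRingCat.of Ω) ⟶ X) {n : ℕ} (hn : Module.finrank X.functionField L ≤ n)
    (η : Fin n → (Spec (CommRingCat.of Ω) ⟶ (UnrNorm25.str (X := X) L).normalization)) (hinj : Function.Injective η)
    (hη : ∀ i, η i ≫ (UnrNorm25.str (X := X) L).fromNormalization = ξ) :
    ∃ U : X.Opens, Set.range ξ ⊆ (U : Set X) ∧ Etale ((UnrNorm25.str (X := X) L).fromNormalization ∣_ U) ∧
      IsFinite ((UnrNorm25.str (X := X) L).fromNormalization ∣_ U) := by
  classical
  let f := UnrNorm25.str (X := X) L
  obtain ⟨U, hU, hxU, -⟩ :=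
    exists_isAffineOpen_mem_and_subset (X := X) (x := ξ (IsLocalRing.closedPoint Ω)) (U := ⊤) trivial
  haveI : Nonempty U := ⟨⟨_, hxU⟩⟩
  haveI : IsFractionRing Γ(X, U) X.functionField := functionField_isFractionRing_of_isAffineOpen X U hU
  letI : Algebra Γ(X, U) L := ((algebraMap X.functionField L).comp (X.germToFunctionField U).hom).toAlgebra
  haveI : IsScalarTower Γ(X, U) X.functionField L := IsScalarTower.of_algebraMap_eq fun _ => rfl
  haveI : IsIntegrallyClosed Γ(X, U) := VarDim.isIntegrallyClosed_sections (fun x => (hX x).2) U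
  let V := f.fromNormalization ⁻¹ᵁ U
  have hV : IsAffineOpen V := hU.preimage _
  -- the sections of the normalization
  obtain ⟨θ, hθ⟩ : ∃ θ : integralClosure Γ(X, U) L ≃+* Γ(f.normalization, V),
      ∀ r, θ (algebraMap Γ(X, U) _ r) = f.fromNormalization.app U r := by
    letI := (f.app U).hom.toAlgebra
    have hfU : f ⁻¹ᵁ U = ⊤ := UnrNorm25.preimage_top L U
    let E : Γ(Spec (CommRingCat.of L), f ⁻¹ᵁ U) ≅ CommRingCat.of L :=
      (Spec (CommRingCat.of L)).presheaf.mapIso (eqToIso hfU.symm).op ≪≫ Scheme.ΓSpecIso _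
    have hE : f.app U ≫ E.hom = X.germToFunctionField U ≫ CommRingCat.ofHom (algebraMap X.functionField L) := by
      rw [← str_appLE_ΓSpecIso L U, Scheme.Hom.appLE, Category.assoc]
      rfl
    let e : Γ(Spec (CommRingCat.of L), f ⁻¹ᵁ U) ≃ₐ[Γ(X, U)] L :=
      AlgEquiv.ofRingEquiv (f := E.commRingCatIsoToRingEquiv) fun r => ConcreteCategory.congr_hom hE r
    refine ⟨e.mapIntegralClosure.symm.toRingEquiv.trans (f.normalizationObjIso hU).symm.commRingCatIsoToRingEquiv,
      fun r => ?_⟩
    rw [f.fromNormalization_app hU]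
    show (f.normalizationObjIso hU).inv (e.mapIntegralClosure.symm (algebraMap Γ(X, U) (integralClosure Γ(X, U) L) r)) = _
    rw [AlgEquiv.commutes]
    rfl
  have hleξ : (⊤ : (Spec (CommRingCat.of Ω)).Opens) ≤ ξ ⁻¹ᵁ U := fun y _ => by
    show ξ y ∈ U
    rwa [show y = IsLocalRing.closedPoint Ω from Subsingleton.elim (α := PrimeSpectrum Ω) _ _]
  let ψ : Γ(X, U) →+* Ω := (ξ.appLE U ⊤ hleξ ≫ (Scheme.ΓSpecIso (CommRingCat.of Ω)).hom).hom
  have hleη : ∀ i, (⊤ : (Spec (CommRingCat.of Ω)).Opens) ≤ η i ⁻¹ᵁ V := fun i => by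
    show ⊤ ≤ (η i ≫ f.fromNormalization) ⁻¹ᵁ U
    rw [hη i]; exact hleξ
  let φ : Fin n → integralClosure Γ(X, U) L →+* Ω := fun i =>
    ((η i).appLE V ⊤ (hleη i) ≫ (Scheme.ΓSpecIso (CommRingCat.of Ω)).hom).hom.comp θ.toRingHom
  have hφ : ∀ i, (φ i).comp (algebraMap Γ(X, U) _) = ψ := fun i => by
    refine RingHom.ext fun r => ?_
    show ((η i).appLE V ⊤ (hleη i) ≫ (Scheme.ΓSpecIso (CommRingCat.of Ω)).hom) (θ (algebraMap Γ(X, U) _ r)) = ψ r
    rw [hθ, ← CommRingCat.comp_apply, ← Category.assoc, Scheme.Hom.app_eq_appLE, Scheme.Hom.appLE_comp_appLE]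
    have hg : ∀ (g : Spec (CommRingCat.of Ω) ⟶ X) (e : ⊤ ≤ g ⁻¹ᵁ U), g = ξ → g.appLE U ⊤ e = ξ.appLE U ⊤ hleξ := by
      rintro g e rfl; rfl
    rw [hg _ _ (hη i)]
  have hφinj : Function.Injective φ := fun i j hij => by
    apply hinj
    have h : ((η i).appLE V ⊤ (hleη i) ≫ (Scheme.ΓSpecIso (CommRingCat.of Ω)).hom) =
        ((η j).appLE V ⊤ (hleη j) ≫ (Scheme.ΓSpecIso (CommRingCat.of Ω)).hom) := by
      ext z
      obtain ⟨b, rfl⟩ := θ.surjective z
      exact RingHom.congr_fun hij b
    rw [cancel_mono] at h
    have key : ∀ k, Spec.map ((η k).appLE V ⊤ (hleη k)) ≫ hV.fromSpec = (isAffineOpen_top _).fromSpec ≫ η k :=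
      fun k => IsAffineOpen.SpecMap_appLE_fromSpec (η k) hV (isAffineOpen_top _) (hleη k)
    have h2 := key i
    rw [h, key j, IsAffineOpen.fromSpec_top, cancel_epi] at h2
    exact h2.symm
  obtain ⟨a, ha, het, hfin⟩ := exists_awayMap_etale_finite Γ(X, U) X.functionField L hn ψ φ hφ hφinj
  refine ⟨X.basicOpen a, ?_, ?_⟩
  · rintro _ ⟨y, rfl⟩
    have hu : IsUnit (ξ.appLE U ⊤ hleξ a) := by
      have hu' : IsUnit (ψ a) := isUnit_iff_ne_zero.2 ha
      have := hu'.map (Scheme.ΓSpecIso (CommRingCat.of Ω)).inv.hom
      rwa [show (Scheme.ΓSpecIso (CommRingCat.of Ω)).inv.hom (ψ a) = ξ.appLE U ⊤ hleξ a from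
        ConcreteCategory.congr_hom (Scheme.ΓSpecIso (CommRingCat.of Ω)).hom_inv_id _] at this
    have hy : y ∈ (Spec (CommRingCat.of Ω)).basicOpen (ξ.appLE U ⊤ hleξ a) := by
      rw [Scheme.basicOpen_of_isUnit _ hu]; trivial
    rw [Scheme.basicOpen_appLE] at hy
    exact hy.2
  -- transport to the sections of the normalization
  haveI : IsAffine (X.basicOpen a : X.Opens) := hU.basicOpen a
  haveI : IsAffine (f.fromNormalization ⁻¹ᵁ X.basicOpen a : f.normalization.Opens) := (hU.basicOpen a).preimage _
  have key : ∀ {P : ∀ {R S : Type u} [CommRing R] [CommRing S], (R →+* S) → Prop}, RingHom.RespectsIso @P →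
      P (Localization.awayMap (algebraMap Γ(X, U) (integralClosure Γ(X, U) L)) a) →
      P (f.fromNormalization ∣_ X.basicOpen a).appTop.hom := by
    intro P hP h
    haveI := hU.isLocalization_basicOpen a
    haveI := hV.isLocalization_basicOpen (f.fromNormalization.app U a)
    letI : Algebra (integralClosure Γ(X, U) L) Γ(f.normalization, f.normalization.basicOpen (f.fromNormalization.app U a)) :=
      ((algebraMap Γ(f.normalization, V) Γ(f.normalization, f.normalization.basicOpen (f.fromNormalization.app U a))).comp θ.toRingHom).toAlgebra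
    haveI : IsLocalization.Away (algebraMap Γ(X, U) (integralClosure Γ(X, U) L) a)
        Γ(f.normalization, f.normalization.basicOpen (f.fromNormalization.app U a)) := by
      have := IsLocalization.isLocalization_of_base_ringEquiv (Submonoid.powers (f.fromNormalization.app U a))
        Γ(f.normalization, f.normalization.basicOpen (f.fromNormalization.app U a)) θ.symm
      have ha' : θ.symm (f.fromNormalization.app U a) = algebraMap Γ(X, U) (integralClosure Γ(X, U) L) a := by
        rw [← hθ a]; exact θ.symm_apply_apply _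
      rw [Submonoid.map_powers] at this
      erw [ha'] at this
      exact this
    rw [morphismRestrict_appTop]
    have h1 := (hP.isLocalization_away_iff Γ(X, X.basicOpen a)
      Γ(f.normalization, f.normalization.basicOpen (f.fromNormalization.app U a)) _ a).1 h
    have h2 : IsLocalization.Away.map Γ(X, X.basicOpen a)
        Γ(f.normalization, f.normalization.basicOpen (f.fromNormalization.app U a))
        (algebraMap Γ(X, U) (integralClosure Γ(X, U) L)) a =
      (f.fromNormalization.appLE (X.basicOpen a) (f.normalization.basicOpen (f.fromNormalization.app U a))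
        (by rw [Scheme.preimage_basicOpen])).hom := by
      apply IsLocalization.ringHom_ext (Submonoid.powers a)
      refine RingHom.ext fun r => ?_
      rw [RingHom.comp_apply, RingHom.comp_apply, IsLocalization.Away.map, IsLocalization.map_eq]
      show (f.normalization.presheaf.map _) (θ (algebraMap Γ(X, U) _ r)) = _
      rw [hθ]
      show (f.fromNormalization.app U ≫ f.normalization.presheaf.map _) r =
        (X.presheaf.map _ ≫ f.fromNormalization.appLE _ _ _) r
      rw [Scheme.Hom.map_appLE]
      rfl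
    rw [h2] at h1
    have h3 : f.normalization.basicOpen (f.fromNormalization.app U a) = f.fromNormalization ⁻¹ᵁ X.basicOpen a :=
      (Scheme.preimage_basicOpen _ _).symm
    have h4 : f.fromNormalization.app ((X.basicOpen a).ι ''ᵁ ⊤) ≫
        f.normalization.presheaf.map (eqToHom (image_morphismRestrict_preimage f.fromNormalization _ ⊤)).op =
      (X.presheaf.mapIso (eqToIso (Scheme.Opens.ι_image_top (X.basicOpen a)).symm).op).hom ≫
        f.fromNormalization.appLE (X.basicOpen a) (f.normalization.basicOpen (f.fromNormalization.app U a))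
          (by rw [Scheme.preimage_basicOpen]) ≫
        (f.normalization.presheaf.mapIso (eqToIso ((Scheme.Opens.ι_image_top _).trans h3.symm)).op).hom := by
      simp only [Scheme.Hom.app_eq_appLE, Scheme.Hom.appLE_map, Functor.mapIso_hom, Iso.op_hom, eqToIso.hom,
        Scheme.Hom.map_appLE]
      rfl
    have h5 := (hP.cancel_left_isIso
      (X.presheaf.mapIso (eqToIso (Scheme.Opens.ι_image_top (X.basicOpen a)).symm).op).hom
      (f.fromNormalization.appLE (X.basicOpen a) (f.normalization.basicOpen (f.fromNormalization.app U a))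
        (by rw [Scheme.preimage_basicOpen]) ≫
        (f.normalization.presheaf.mapIso (eqToIso ((Scheme.Opens.ι_image_top _).trans h3.symm)).op).hom)).2
      ((hP.cancel_right_isIso _ _).2 h1)
    exact (congrArg (fun g => P (CommRingCat.Hom.hom g)) h4).mpr h5
  refine ⟨?_, ?_⟩
  · exact (HasRingHomProperty.iff_of_isAffine (P := @Etale)).2 (key RingHom.Etale.respectsIso het)
  · exact (HasAffineProperty.iff_of_isAffine (P := @IsFinite)).2 ⟨inferInstance, key RingHom.finite_respectsIso hfin⟩

end Groth.Agent.FibreCard25
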